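import Mathlib
import Cfsg.Agent.K.CopAux
import Cfsg.Agent.K.OutSpor
import Cfsg.Agent.K.OutBM
import Cfsg.Agent.K.OutTits

/-!
Sporadic groups and the Tits group have no coprime automorphisms.
-/

set_option autoImplicit false

namespace Cfsg.Agent.K

open Cfsg

variable {K : Type*} [Group K] [Finite K]

theorem card_out_spor_dvd [IsSimpleGroup K] (h : IsSporadicGroup K) : Nat.card (Out K) ∣ 2 := by
  rcases card_out_spor24 h with (h | h) | h | h
  · simp [h]
  · simp [h]
  · simp [card_out_B h]
  · simp [card_out_M h]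

theorem CopFacts.of_out_dvd_two [IsSimpleGroup K] (hna : ¬ IsMulCommutative K)
    (h : Nat.card (Out K) ∣ 2) : CopFacts K :=
  CopFacts.of_out fun r hr h1 => by
    rw [(Nat.prime_dvd_prime_iff_eq hr Nat.prime_two).1 (h1.trans h)]
    exact two_dvd_card_of_not_solvable (not_solvable_of_simple hna)

theorem copFacts_spor [IsSimpleGroup K] (hna : ¬ IsMulCommutative K) (h : IsSporadicGroup K) :
    CopFacts K :=
  CopFacts.of_out_dvd_two hna (card_out_spor_dvd h)

theorem copFacts_Tits [IsSimpleGroup K] (hna : ¬ IsMulCommutative K) (h : Lie.IsoTits K) :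
    CopFacts K :=
  CopFacts.of_out_dvd_two hna (card_out_Tits h).dvd

end Cfsg.Agent.K
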